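import Cfsg.Agent.Spor.McKa.D0

set_option autoImplicit false
set_option maxRecDepth 100000000
set_option Elab.async false

namespace Cfsg.Agent.Spor.McKa

theorem ok0 : Net.okb 4 n0 = true := by decide +kernel

theorem ok1 : Net.okb 4 n1 = true := by decide +kernel

theorem ok2 : Net.okb 4 n2 = true := by decide +kernel

theorem ok3 : Net.okb 4 n3 = true := by decide +kernel

theorem ok4 : Net.okb 4 n4 = true := by decide +kernel

theorem ok5 : Net.okb 4 n5 = true := by decide +kernel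

theorem rel0 : T.rel 4 [1, 1] 0 4 = true := by decide +kernel

theorem rel1 : T.rel 4 [2, 2] 0 4 = true := by decide +kernel

theorem rel2 : T.rel 4 [3, 3] 0 4 = true := by decide +kernel

theorem rel3 : T.rel 4 [4, 4] 0 4 = true := by decide +kernel

theorem rel4 : T.rel 4 [5, 5] 0 4 = true := by decide +kernel

theorem rel5 : T.rel 4 [6, 6, 6] 0 4 = true := by decide +kernel

theorem rel6 : T.rel 4 [3, 6, 3, 6, 3, 6] 0 4 = true := by decide +kernel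

theorem rel7 : T.rel 4 [4, 6, 4, 6, 4, 6] 0 4 = true := by decide +kernel

theorem rel8 : T.rel 4 [3, 2, 4, 3, 4, 3, 2, 4] 0 4 = true := by decide +kernel

theorem rel9 : T.rel 4 [2, 4, 6, 4, 2, 6, 4, 2, 6] 0 4 = true := by decide +kernel

theorem rel10 : T.rel 4 [3, 4, 6, 4, 3, 7, 4, 3, 6, 4] 0 4 = true := by decide +kernel

theorem rel11 : T.rel 4 [2, 6, 2, 6, 2, 6] 0 4 = true := by decide +kernel

theorem rel12 : T.rel 4 [1, 2, 1, 2] 0 4 = true := by decide +kernel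

theorem rel13 : T.rel 4 [5, 4, 1, 6, 4, 5, 7, 4, 6] 0 4 = true := by decide +kernel

theorem rel14 : T.rel 4 [5, 2, 4, 2, 4, 5, 3, 2, 3, 2] 0 4 = true := by decide +kernel

theorem rel15 : T.rel 4 [5, 1, 2, 6, 2, 5, 4, 6, 2, 7, 4] 0 4 = true := by decide +kernel

theorem rel16 : T.rel 4 [1, 4, 3, 6, 4, 7, 3, 2, 4, 2] 0 4 = true := by decide +kernel

theorem rel17 : T.rel 4 [5, 2, 5, 2, 5, 2] 0 4 = true := by decide +kernel

theorem rel18 : T.rel 4 [5, 2, 4, 5, 3, 7, 4, 2, 5, 3, 4, 2, 6, 3] 0 4 = true := by decide +kernel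

theorem hcov : T.treeCov (ones 15) L 1 = true := by decide +kernel

theorem hg : lall (fun z => band (memL L z) (band (sub (ones 15) (T.let z).cl) (T.closed (ones 15) z))) gs = true := by decide +kernel

theorem rot1_1 : T.rot 1 [1] (sel (ones 15) ip1 1) = true := by decide +kernel

theorem rot1_1r : band (Rule.ok (2 * 5) EX RL ⟨1 :: [1], [], 14, false⟩) (lall (memL L) [1]) = true := by decide +kernel

theorem rot1_2 : T.rot 1 [2, 1, 2] (sel (ones 15) ip1 2) = true := by decide +kernel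

theorem rot1_2r : band (Rule.ok (2 * 5) EX RL ⟨1 :: [2, 1, 2], [], 7, true⟩) (lall (memL L) [2, 1, 2]) = true := by decide +kernel

theorem rot1_3 : T.rot 1 [4, 3, 6, 4, 7, 3, 2, 4, 2] (sel (ones 15) ip1 3) = true := by decide +kernel

theorem rot1_3r : band (Rule.ok (2 * 5) EX RL ⟨1 :: [4, 3, 6, 4, 7, 3, 2, 4, 2], [], 11, true⟩) (lall (memL L) [4, 3, 6, 4, 7, 3, 2, 4, 2]) = true := by decide +kernel

theorem rot1_4 : T.rot 1 [2, 6, 2, 5, 4, 6, 2, 7, 4, 5] (sel (ones 15) ip1 4) = true := by decide +kernel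

theorem rot1_4r : band (Rule.ok (2 * 5) EX RL ⟨1 :: [2, 6, 2, 5, 4, 6, 2, 7, 4, 5], [8], 10, true⟩) (lall (memL L) [2, 6, 2, 5, 4, 6, 2, 7, 4, 5]) = true := by decide +kernel

theorem cov1 : T.cover 1 [(sel (ones 15) ip1 1), (sel (ones 15) ip1 2), (sel (ones 15) ip1 3), (sel (ones 15) ip1 4)] = true := by decide +kernel

theorem tl1 : T.treeLt 4 1 = true := by decide +kernel

theorem rot2_1 : T.rot 2 [2] (sel (ones 15) ip2 1) = true := by decide +kernel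

theorem rot2_1r : band (Rule.ok (2 * 5) EX RL ⟨2 :: [2], [], 14, false⟩) (lall (memL L) [2]) = true := by decide +kernel

theorem rot2_2 : T.rot 2 [1, 2, 1] (sel (ones 15) ip2 2) = true := by decide +kernel

theorem rot2_2r : band (Rule.ok (2 * 5) EX RL ⟨2 :: [1, 2, 1], [], 7, false⟩) (lall (memL L) [1, 2, 1]) = true := by decide +kernel

theorem rot2_3 : T.rot 2 [6, 2, 6, 2, 6] (sel (ones 15) ip2 3) = true := by decide +kernel

theorem rot2_3r : band (Rule.ok (2 * 5) EX RL ⟨2 :: [6, 2, 6, 2, 6], [], 6, true⟩) (lall (memL L) [6, 2, 6, 2, 6]) = true := by decide +kernel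

theorem rot2_4 : T.rot 2 [4, 3, 4, 3, 2, 4, 3] (sel (ones 15) ip2 4) = true := by decide +kernel

theorem rot2_4r : band (Rule.ok (2 * 5) EX RL ⟨2 :: [4, 3, 4, 3, 2, 4, 3], [4], 3, true⟩) (lall (memL L) [4, 3, 4, 3, 2, 4, 3]) = true := by decide +kernel

theorem rot2_5 : T.rot 2 [4, 5, 3, 2, 3, 2, 5, 2, 4] (sel (ones 15) ip2 5) = true := by decide +kernel

theorem rot2_5r : band (Rule.ok (2 * 5) EX RL ⟨2 :: [4, 5, 3, 2, 3, 2, 5, 2, 4], [8, 2, 6], 9, true⟩) (lall (memL L) [4, 5, 3, 2, 3, 2, 5, 2, 4]) = true := by decide +kernel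

theorem rot2_6 : T.rot 2 [5, 2, 4, 2, 4, 5, 3, 2, 3] (sel (ones 15) ip2 6) = true := by decide +kernel

theorem rot2_6r : band (Rule.ok (2 * 5) EX RL ⟨2 :: [5, 2, 4, 2, 4, 5, 3, 2, 3], [2], 9, true⟩) (lall (memL L) [5, 2, 4, 2, 4, 5, 3, 2, 3]) = true := by decide +kernel

theorem rot2_7 : T.rot 2 [4, 2, 5, 2, 3, 2, 3, 5, 4] (sel (ones 15) ip2 7) = true := by decide +kernel

theorem rot2_7r : band (Rule.ok (2 * 5) EX RL ⟨2 :: [4, 2, 5, 2, 3, 2, 3, 5, 4], [8, 2, 6, 2], 9, false⟩) (lall (memL L) [4, 2, 5, 2, 3, 2, 3, 5, 4]) = true := by decide +kernel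

theorem rot2_8 : T.rot 2 [7, 4, 5, 1, 2, 6, 2, 5, 4, 6] (sel (ones 15) ip2 8) = true := by decide +kernel

theorem rot2_8r : band (Rule.ok (2 * 5) EX RL ⟨2 :: [7, 4, 5, 1, 2, 6, 2, 5, 4, 6], [6, 11, 2], 10, true⟩) (lall (memL L) [7, 4, 5, 1, 2, 6, 2, 5, 4, 6]) = true := by decide +kernel

theorem cov2 : T.cover 2 [(sel (ones 15) ip2 1), (sel (ones 15) ip2 2), (sel (ones 15) ip2 3), (sel (ones 15) ip2 4), (sel (ones 15) ip2 5), (sel (ones 15) ip2 6), (sel (ones 15) ip2 7), (sel (ones 15) ip2 8), 1] = true := by decide +kernel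

theorem tl2 : T.treeLt 4 2 = true := by decide +kernel

theorem rot3_1 : T.rot 3 [3] (sel (ones 15) ip3 1) = true := by decide +kernel

theorem rot3_1r : band (Rule.ok (2 * 5) EX RL ⟨3 :: [3], [], 14, false⟩) (lall (memL L) [3]) = true := by decide +kernel

theorem rot3_2 : T.rot 3 [2, 4, 3, 4, 3, 2, 4] (sel (ones 15) ip3 2) = true := by decide +kernel

theorem rot3_2r : band (Rule.ok (2 * 5) EX RL ⟨3 :: [2, 4, 3, 4, 3, 2, 4], [], 3, true⟩) (lall (memL L) [2, 4, 3, 4, 3, 2, 4]) = true := by decide +kernel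

theorem rot3_3 : T.rot 3 [4, 6, 4, 3, 7, 4, 3, 6, 4] (sel (ones 15) ip3 3) = true := by decide +kernel

theorem rot3_3r : band (Rule.ok (2 * 5) EX RL ⟨3 :: [4, 6, 4, 3, 7, 4, 3, 6, 4], [], 5, true⟩) (lall (memL L) [4, 6, 4, 3, 7, 4, 3, 6, 4]) = true := by decide +kernel

theorem rot3_4 : T.rot 3 [7, 4, 3, 6, 4, 3, 4, 6, 4] (sel (ones 15) ip3 4) = true := by decide +kernel

theorem rot3_4r : band (Rule.ok (2 * 5) EX RL ⟨3 :: [7, 4, 3, 6, 4, 3, 4, 6, 4], [4, 6, 11, 6], 5, true⟩) (lall (memL L) [7, 4, 3, 6, 4, 3, 4, 6, 4]) = true := by decide +kernel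

theorem rot3_5 : T.rot 3 [2, 5, 2, 4, 2, 4, 5, 3, 2] (sel (ones 15) ip3 5) = true := by decide +kernel

theorem rot3_5r : band (Rule.ok (2 * 5) EX RL ⟨3 :: [2, 5, 2, 4, 2, 4, 5, 3, 2], [2, 4], 9, true⟩) (lall (memL L) [2, 5, 2, 4, 2, 4, 5, 3, 2]) = true := by decide +kernel

theorem rot3_6 : T.rot 3 [6, 4, 7, 3, 2, 4, 2, 1, 4] (sel (ones 15) ip3 6) = true := by decide +kernel

theorem rot3_6r : band (Rule.ok (2 * 5) EX RL ⟨3 :: [6, 4, 7, 3, 2, 4, 2, 1, 4], [0, 6], 11, true⟩) (lall (memL L) [6, 4, 7, 3, 2, 4, 2, 1, 4]) = true := by decide +kernel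

theorem rot3_7 : T.rot 3 [2, 4, 2, 1, 4, 3, 6, 4, 7] (sel (ones 15) ip3 7) = true := by decide +kernel

theorem rot3_7r : band (Rule.ok (2 * 5) EX RL ⟨3 :: [2, 4, 2, 1, 4, 3, 6, 4, 7], [2, 6, 2, 4], 11, true⟩) (lall (memL L) [2, 4, 2, 1, 4, 3, 6, 4, 7]) = true := by decide +kernel

theorem rot3_8 : T.rot 3 [4, 1, 2, 4, 2, 3, 6, 4, 7] (sel (ones 15) ip3 8) = true := by decide +kernel

theorem rot3_8r : band (Rule.ok (2 * 5) EX RL ⟨3 :: [4, 1, 2, 4, 2, 3, 6, 4, 7], [0, 6, 4], 11, false⟩) (lall (memL L) [4, 1, 2, 4, 2, 3, 6, 4, 7]) = true := by decide +kernel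

theorem rot3_9 : T.rot 3 [7, 4, 2, 5, 3, 4, 2, 6, 3, 5, 2, 4, 5] (sel (ones 15) ip3 9) = true := by decide +kernel

theorem rot3_9r : band (Rule.ok (2 * 5) EX RL ⟨3 :: [7, 4, 2, 5, 3, 4, 2, 6, 3, 5, 2, 4, 5], [8, 2, 6, 8], 13, true⟩) (lall (memL L) [7, 4, 2, 5, 3, 4, 2, 6, 3, 5, 2, 4, 5]) = true := by decide +kernel

theorem rot3_10 : T.rot 3 [4, 2, 6, 3, 5, 2, 4, 5, 3, 7, 4, 2, 5] (sel (ones 15) ip3 10) = true := by decide +kernel

theorem rot3_10r : band (Rule.ok (2 * 5) EX RL ⟨3 :: [4, 2, 6, 3, 5, 2, 4, 5, 3, 7, 4, 2, 5], [4, 10, 2, 6, 4], 13, true⟩) (lall (memL L) [4, 2, 6, 3, 5, 2, 4, 5, 3, 7, 4, 2, 5]) = true := by decide +kernel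

theorem rot3_11 : T.rot 3 [5, 4, 2, 5, 3, 7, 2, 4, 3, 5, 2, 4, 6] (sel (ones 15) ip3 11) = true := by decide +kernel

theorem rot3_11r : band (Rule.ok (2 * 5) EX RL ⟨3 :: [5, 4, 2, 5, 3, 7, 2, 4, 3, 5, 2, 4, 6], [8, 2, 6, 8, 4], 13, false⟩) (lall (memL L) [5, 4, 2, 5, 3, 7, 2, 4, 3, 5, 2, 4, 6]) = true := by decide +kernel

theorem cov3 : T.cover 3 [(sel (ones 15) ip3 1), (sel (ones 15) ip3 2), (sel (ones 15) ip3 3), (sel (ones 15) ip3 4), (sel (ones 15) ip3 5), (sel (ones 15) ip3 6), (sel (ones 15) ip3 7), (sel (ones 15) ip3 8), (sel (ones 15) ip3 9), (sel (ones 15) ip3 10), (sel (ones 15) ip3 11), 1] = true := by decide +kernel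

theorem tl3 : T.treeLt 4 3 = true := by decide +kernel

theorem rot4_1 : T.rot 4 [4] (sel (ones 15) ip4 1) = true := by decide +kernel

theorem rot4_1r : band (Rule.ok (2 * 5) EX RL ⟨4 :: [4], [], 14, false⟩) (lall (memL L) [4]) = true := by decide +kernel

theorem rot4_2 : T.rot 4 [6, 4, 6, 4, 6] (sel (ones 15) ip4 2) = true := by decide +kernel

theorem rot4_2r : band (Rule.ok (2 * 5) EX RL ⟨4 :: [6, 4, 6, 4, 6], [], 2, true⟩) (lall (memL L) [6, 4, 6, 4, 6]) = true := by decide +kernel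

theorem rot4_3 : T.rot 4 [7, 4, 7, 4, 7] (sel (ones 15) ip4 3) = true := by decide +kernel

theorem rot4_3r : band (Rule.ok (2 * 5) EX RL ⟨4 :: [7, 4, 7, 4, 7], [6], 2, false⟩) (lall (memL L) [7, 4, 7, 4, 7]) = true := by decide +kernel

theorem rot4_4 : T.rot 4 [6, 4, 2, 6, 4, 2, 6, 2] (sel (ones 15) ip4 4) = true := by decide +kernel

theorem rot4_4r : band (Rule.ok (2 * 5) EX RL ⟨4 :: [6, 4, 2, 6, 4, 2, 6, 2], [2], 4, true⟩) (lall (memL L) [6, 4, 2, 6, 4, 2, 6, 2]) = true := by decide +kernel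

theorem rot4_5 : T.rot 4 [2, 6, 2, 4, 6, 4, 2, 6] (sel (ones 15) ip4 5) = true := by decide +kernel

theorem rot4_5r : band (Rule.ok (2 * 5) EX RL ⟨4 :: [2, 6, 2, 4, 6, 4, 2, 6], [10, 2, 6], 4, true⟩) (lall (memL L) [2, 6, 2, 4, 6, 4, 2, 6]) = true := by decide +kernel

theorem rot4_6 : T.rot 4 [7, 2, 4, 7, 4, 2, 7, 2] (sel (ones 15) ip4 6) = true := by decide +kernel

theorem rot4_6r : band (Rule.ok (2 * 5) EX RL ⟨4 :: [7, 2, 4, 7, 4, 2, 7, 2], [10, 2], 4, false⟩) (lall (memL L) [7, 2, 4, 7, 4, 2, 7, 2]) = true := by decide +kernel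

theorem rot4_7 : T.rot 4 [6, 5, 4, 1, 6, 4, 5, 7] (sel (ones 15) ip4 7) = true := by decide +kernel

theorem rot4_7r : band (Rule.ok (2 * 5) EX RL ⟨4 :: [6, 5, 4, 1, 6, 4, 5, 7], [10, 6], 8, true⟩) (lall (memL L) [6, 5, 4, 1, 6, 4, 5, 7]) = true := by decide +kernel

theorem rot4_8 : T.rot 4 [3, 4, 6, 4, 3, 7, 4, 3, 6] (sel (ones 15) ip4 8) = true := by decide +kernel

theorem rot4_8r : band (Rule.ok (2 * 5) EX RL ⟨4 :: [3, 4, 6, 4, 3, 7, 4, 3, 6], [6], 5, true⟩) (lall (memL L) [3, 4, 6, 4, 3, 7, 4, 3, 6]) = true := by decide +kernel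

theorem cov4 : T.cover 4 [(sel (ones 15) ip4 1), (sel (ones 15) ip4 2), (sel (ones 15) ip4 3), (sel (ones 15) ip4 4), (sel (ones 15) ip4 5), (sel (ones 15) ip4 6), (sel (ones 15) ip4 7), (sel (ones 15) ip4 8), 1] = true := by decide +kernel

theorem tl4 : T.treeLt 4 4 = true := by decide +kernel

theorem rot5_1 : T.rot 5 [5] (sel (ones 15) ip5 1) = true := by decide +kernel

theorem rot5_1r : band (Rule.ok (2 * 5) EX RL ⟨5 :: [5], [], 14, false⟩) (lall (memL L) [5]) = true := by decide +kernel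

theorem rot5_2 : T.rot 5 [2, 5, 2, 5, 2] (sel (ones 15) ip5 2) = true := by decide +kernel

theorem rot5_2r : band (Rule.ok (2 * 5) EX RL ⟨5 :: [2, 5, 2, 5, 2], [], 12, true⟩) (lall (memL L) [2, 5, 2, 5, 2]) = true := by decide +kernel

theorem rot5_3 : T.rot 5 [4, 1, 6, 4, 5, 7, 4, 6] (sel (ones 15) ip5 3) = true := by decide +kernel

theorem rot5_3r : band (Rule.ok (2 * 5) EX RL ⟨5 :: [4, 1, 6, 4, 5, 7, 4, 6], [], 8, true⟩) (lall (memL L) [4, 1, 6, 4, 5, 7, 4, 6]) = true := by decide +kernel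

theorem rot5_4 : T.rot 5 [7, 4, 6, 5, 4, 1, 6, 4] (sel (ones 15) ip5 4) = true := by decide +kernel

theorem rot5_4r : band (Rule.ok (2 * 5) EX RL ⟨5 :: [7, 4, 6, 5, 4, 1, 6, 4], [10, 6, 11, 8], 8, true⟩) (lall (memL L) [7, 4, 6, 5, 4, 1, 6, 4]) = true := by decide +kernel

theorem rot5_5 : T.rot 5 [4, 7, 1, 4, 5, 7, 4, 6] (sel (ones 15) ip5 5) = true := by decide +kernel

theorem rot5_5r : band (Rule.ok (2 * 5) EX RL ⟨5 :: [4, 7, 1, 4, 5, 7, 4, 6], [10, 6, 11], 8, false⟩) (lall (memL L) [4, 7, 1, 4, 5, 7, 4, 6]) = true := by decide +kernel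

theorem rot5_6 : T.rot 5 [3, 4, 2, 6, 3, 5, 2, 4, 5, 3, 7, 4, 2] (sel (ones 15) ip5 6) = true := by decide +kernel

theorem rot5_6r : band (Rule.ok (2 * 5) EX RL ⟨5 :: [3, 4, 2, 6, 3, 5, 2, 4, 5, 3, 7, 4, 2], [4, 10, 2, 6, 4, 8], 13, true⟩) (lall (memL L) [3, 4, 2, 6, 3, 5, 2, 4, 5, 3, 7, 4, 2]) = true := by decide +kernel

theorem rot5_7 : T.rot 5 [2, 4, 6, 3, 5, 4, 2, 5, 3, 7, 2, 4, 3] (sel (ones 15) ip5 7) = true := by decide +kernel

theorem rot5_7r : band (Rule.ok (2 * 5) EX RL ⟨5 :: [2, 4, 6, 3, 5, 4, 2, 5, 3, 7, 2, 4, 3], [4, 10, 2, 6, 4], 13, false⟩) (lall (memL L) [2, 4, 6, 3, 5, 4, 2, 5, 3, 7, 2, 4, 3]) = true := by decide +kernel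

theorem cov5 : T.cover 5 [(sel (ones 15) ip5 1), (sel (ones 15) ip5 2), (sel (ones 15) ip5 3), (sel (ones 15) ip5 4), (sel (ones 15) ip5 5), (sel (ones 15) ip5 6), (sel (ones 15) ip5 7)] = true := by decide +kernel

theorem tl5 : T.treeLt 4 5 = true := by decide +kernel

theorem rot6_1 : T.rot 6 [6, 6] (sel (ones 15) ip6 1) = true := by decide +kernel

theorem rot6_1r : band (Rule.ok (2 * 5) EX RL ⟨6 :: [6, 6], [], 0, true⟩) (lall (memL L) [6, 6]) = true := by decide +kernel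

theorem rot6_2 : T.rot 6 [3, 6, 3, 6, 3] (sel (ones 15) ip6 2) = true := by decide +kernel

theorem rot6_2r : band (Rule.ok (2 * 5) EX RL ⟨6 :: [3, 6, 3, 6, 3], [10], 1, true⟩) (lall (memL L) [3, 6, 3, 6, 3]) = true := by decide +kernel

theorem rot6_3 : T.rot 6 [2, 6, 2, 6, 2] (sel (ones 15) ip6 3) = true := by decide +kernel

theorem rot6_3r : band (Rule.ok (2 * 5) EX RL ⟨6 :: [2, 6, 2, 6, 2], [10], 6, true⟩) (lall (memL L) [2, 6, 2, 6, 2]) = true := by decide +kernel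

theorem rot6_4 : T.rot 6 [4, 2, 6, 2, 4, 6, 4, 2] (sel (ones 15) ip6 4) = true := by decide +kernel

theorem rot6_4r : band (Rule.ok (2 * 5) EX RL ⟨6 :: [4, 2, 6, 2, 4, 6, 4, 2], [10, 2, 6, 10], 4, true⟩) (lall (memL L) [4, 2, 6, 2, 4, 6, 4, 2]) = true := by decide +kernel

theorem rot6_5 : T.rot 6 [4, 5, 7, 4, 6, 5, 4, 1] (sel (ones 15) ip6 5) = true := by decide +kernel

theorem rot6_5r : band (Rule.ok (2 * 5) EX RL ⟨6 :: [4, 5, 7, 4, 6, 5, 4, 1], [8, 6, 0], 8, true⟩) (lall (memL L) [4, 5, 7, 4, 6, 5, 4, 1]) = true := by decide +kernel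

theorem rot6_6 : T.rot 6 [2, 5, 4, 6, 2, 7, 4, 5, 1, 2] (sel (ones 15) ip6 6) = true := by decide +kernel

theorem rot6_6r : band (Rule.ok (2 * 5) EX RL ⟨6 :: [2, 5, 4, 6, 2, 7, 4, 5, 1, 2], [8, 0, 2], 10, true⟩) (lall (memL L) [2, 5, 4, 6, 2, 7, 4, 5, 1, 2]) = true := by decide +kernel

theorem cov6 : T.cover 6 [(sel (ones 15) ip6 1), (sel (ones 15) ip6 2), (sel (ones 15) ip6 3), (sel (ones 15) ip6 4), (sel (ones 15) ip6 5), (sel (ones 15) ip6 6), 1] = true := by decide +kernel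

theorem tl6 : T.treeLt 4 6 = true := by decide +kernel

theorem rot7_1 : T.rot 7 [6] (sel (ones 15) ip7 1) = true := by decide +kernel

theorem rot7_1r : band (Rule.ok (2 * 5) EX RL ⟨7 :: [6], [], 14, false⟩) (lall (memL L) [6]) = true := by decide +kernel

theorem rot7_2 : T.rot 7 [7, 7] (sel (ones 15) ip7 2) = true := by decide +kernel

theorem rot7_2r : band (Rule.ok (2 * 5) EX RL ⟨7 :: [7, 7], [], 0, false⟩) (lall (memL L) [7, 7]) = true := by decide +kernel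

theorem rot7_3 : T.rot 7 [3, 7, 3, 7, 3] (sel (ones 15) ip7 3) = true := by decide +kernel

theorem rot7_3r : band (Rule.ok (2 * 5) EX RL ⟨7 :: [3, 7, 3, 7, 3], [], 1, false⟩) (lall (memL L) [3, 7, 3, 7, 3]) = true := by decide +kernel

theorem rot7_4 : T.rot 7 [2, 7, 2, 7, 2] (sel (ones 15) ip7 4) = true := by decide +kernel

theorem rot7_4r : band (Rule.ok (2 * 5) EX RL ⟨7 :: [2, 7, 2, 7, 2], [], 6, false⟩) (lall (memL L) [2, 7, 2, 7, 2]) = true := by decide +kernel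

theorem rot7_5 : T.rot 7 [2, 4, 7, 4, 2, 7, 2, 4] (sel (ones 15) ip7 5) = true := by decide +kernel

theorem rot7_5r : band (Rule.ok (2 * 5) EX RL ⟨7 :: [2, 4, 7, 4, 2, 7, 2, 4], [10, 2, 6], 4, false⟩) (lall (memL L) [2, 4, 7, 4, 2, 7, 2, 4]) = true := by decide +kernel

theorem rot7_6 : T.rot 7 [1, 4, 5, 7, 4, 6, 5, 4] (sel (ones 15) ip7 6) = true := by decide +kernel

theorem rot7_6r : band (Rule.ok (2 * 5) EX RL ⟨7 :: [1, 4, 5, 7, 4, 6, 5, 4], [8, 6, 0, 11], 8, false⟩) (lall (memL L) [1, 4, 5, 7, 4, 6, 5, 4]) = true := by decide +kernel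

theorem rot7_7 : T.rot 7 [4, 3, 6, 4, 3, 4, 6, 4, 3] (sel (ones 15) ip7 7) = true := by decide +kernel

theorem rot7_7r : band (Rule.ok (2 * 5) EX RL ⟨7 :: [4, 3, 6, 4, 3, 4, 6, 4, 3], [6, 10, 4, 6, 11], 5, true⟩) (lall (memL L) [4, 3, 6, 4, 3, 4, 6, 4, 3]) = true := by decide +kernel

theorem rot7_8 : T.rot 7 [2, 1, 5, 4, 6, 2, 7, 4, 5, 2] (sel (ones 15) ip7 8) = true := by decide +kernel

theorem rot7_8r : band (Rule.ok (2 * 5) EX RL ⟨7 :: [2, 1, 5, 4, 6, 2, 7, 4, 5, 2], [8, 0, 2, 11], 10, false⟩) (lall (memL L) [2, 1, 5, 4, 6, 2, 7, 4, 5, 2]) = true := by decide +kernel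

theorem cov7 : T.cover 7 [(sel (ones 15) ip7 1), (sel (ones 15) ip7 2), (sel (ones 15) ip7 3), (sel (ones 15) ip7 4), (sel (ones 15) ip7 5), (sel (ones 15) ip7 6), (sel (ones 15) ip7 7), (sel (ones 15) ip7 8)] = true := by decide +kernel

theorem tl7 : Nat.beq (T.let 7).tt 0 = true := by decide +kernel

end Cfsg.Agent.Spor.McKa
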