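import Cfsg.Agent.Spor.Chk

set_option autoImplicit false
set_option maxRecDepth 100000000
set_option Elab.async false
noncomputable section

namespace Cfsg.Agent.Spor.McKa

def m0_0 : Nat := nat_lit 0x90
def m0_1 : Nat := nat_lit 0x908
def m0_2 : Nat := nat_lit 0x1
def m0_3 : Nat := nat_lit 0x141
def m0_4 : Nat := nat_lit 0x1
def m0_5 : Nat := nat_lit 0x108
def m0_6 : Nat := nat_lit 0x90
def n0 : Net := Net.cons 8 m0_0 (Net.cons 4 m0_1 (Net.cons 2 m0_2 (Net.cons 1 m0_3 (Net.cons 2 m0_4 (Net.cons 4 m0_5 (Net.cons 8 m0_6 (Net.nil)))))))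

def m1_0 : Nat := nat_lit 0x4
def m1_1 : Nat := nat_lit 0x212
def m1_2 : Nat := nat_lit 0x40
def m1_3 : Nat := nat_lit 0x10
def n1 : Net := Net.cons 4 m1_0 (Net.cons 2 m1_1 (Net.cons 1 m1_2 (Net.cons 2 m1_3 (Net.nil))))

def m2_0 : Nat := nat_lit 0xa
def m2_1 : Nat := nat_lit 0x409
def m2_2 : Nat := nat_lit 0x1001
def m2_3 : Nat := nat_lit 0x1
def m2_4 : Nat := nat_lit 0xa
def n2 : Net := Net.cons 8 m2_0 (Net.cons 4 m2_1 (Net.cons 1 m2_2 (Net.cons 4 m2_3 (Net.cons 8 m2_4 (Net.nil)))))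

def m3_0 : Nat := nat_lit 0x4
def m3_1 : Nat := nat_lit 0x10a
def m3_2 : Nat := nat_lit 0x1
def m3_3 : Nat := nat_lit 0x1011
def m3_4 : Nat := nat_lit 0x1
def m3_5 : Nat := nat_lit 0x102
def m3_6 : Nat := nat_lit 0x4
def n3 : Net := Net.cons 8 m3_0 (Net.cons 4 m3_1 (Net.cons 2 m3_2 (Net.cons 1 m3_3 (Net.cons 2 m3_4 (Net.cons 4 m3_5 (Net.cons 8 m3_6 (Net.nil)))))))

def m4_0 : Nat := nat_lit 0x10
def m4_1 : Nat := nat_lit 0x204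
def m4_2 : Nat := nat_lit 0x230
def m4_3 : Nat := nat_lit 0x51
def m4_4 : Nat := nat_lit 0x204
def m4_5 : Nat := nat_lit 0x10
def n4 : Net := Net.cons 8 m4_0 (Net.cons 4 m4_1 (Net.cons 2 m4_2 (Net.cons 1 m4_3 (Net.cons 4 m4_4 (Net.cons 8 m4_5 (Net.nil))))))

def m5_0 : Nat := nat_lit 0x91
def m5_1 : Nat := nat_lit 0x906
def m5_2 : Nat := nat_lit 0x2011
def m5_3 : Nat := nat_lit 0x114
def m5_4 : Nat := nat_lit 0x110
def m5_5 : Nat := nat_lit 0x104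
def m5_6 : Nat := nat_lit 0x91
def n5 : Net := Net.cons 8 m5_0 (Net.cons 4 m5_1 (Net.cons 2 m5_2 (Net.cons 1 m5_3 (Net.cons 2 m5_4 (Net.cons 4 m5_5 (Net.cons 8 m5_6 (Net.nil)))))))

def ip1 : List Nat := [0x6f25, 0x6569, 0x1000]
def l1 : Let := ⟨0, false, 0x7fff, 0xa04, [0x4f04, 0x3549, 0x4020, 0x7520]⟩

def ip2 : List Nat := [0x21f8, 0x3b30, 0x5090, 0x400]
def l2 : Let := ⟨1, false, 0x7fff, 0x48, [0x1e68, 0x3e90, 0x7000, 0x4120]⟩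

def ip3 : List Nat := [0x7158, 0x2b56, 0xa78, 0x3082]
def l3 : Let := ⟨2, false, 0x7fff, 0x4000, [0x4352, 0x3026, 0x8, 0xbf4]⟩

def ip4 : List Nat := [0x9f4, 0x2544, 0xe64, 0x5000]
def l4 : Let := ⟨3, false, 0x7fff, 0x90, [0x4ad0, 0x7b00, 0x2b40, 0x5424]⟩

def ip5 : List Nat := [0x1a06, 0x437c, 0x6d64]
def l5 : Let := ⟨4, false, 0x7fff, 0x1002, [0x7926, 0x296c, 0x4600, 0x6f74]⟩

def ip6 : List Nat := [0x2f20, 0x5840, 0x244]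
def l6 : Let := ⟨5, false, 0x7fff, 0x2520, [0x3504, 0x4744, 0x2804, 0x5020]⟩

def ip7 : List Nat := [0x7523, 0x5a55, 0x93, 0x8]
def l7 : Let := ⟨5, true, 0x7fff, 0x0, [0x3f63, 0x425a, 0x882, 0x5004]⟩

def NT : List Net := [n0, n1, n2, n3, n4, n5]
def LT : List Let := [⟨0, false, 0, 0, []⟩, l1, l2, l3, l4, l5, l6, l7]
def T : Tab := ⟨NT, LT⟩
def EX : List (List Nat) := [[], [0], [2], [4], [6], [8], [10], [11]]
def RL : List (List Nat) := [[10, 10, 10], [10, 4, 10, 4, 10, 4], [10, 6, 10, 6, 10, 6], [6, 2, 4, 6, 4, 6, 2, 4], [10, 2, 6, 10, 2, 6, 10, 6, 2], [6, 10, 4, 6, 11, 4, 6, 10, 6, 4], [10, 2, 10, 2, 10, 2], [2, 0, 2, 0], [10, 6, 11, 8, 6, 10, 0, 6, 8], [2, 4, 2, 4, 8, 6, 2, 6, 2, 8], [6, 11, 2, 10, 6, 8, 2, 10, 2, 0, 8], [2, 6, 2, 4, 11, 6, 10, 4, 6, 0], [2, 8, 2, 8, 2, 8], [4, 10, 2, 6, 4, 8, 2, 6, 11, 4, 8, 6, 2, 8]]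
def XL : List (List Nat) := []
def BW : List (List Nat) := [[2], [4], [6], [10]]
def IV : Nat := 0x607050403020100
def L : List Nat := [1, 2, 3, 4, 5, 6, 7]
def gs : List Nat := [1, 2, 3, 4, 5, 6]
def base : List Nat := [2, 3, 4, 6]

end Cfsg.Agent.Spor.McKa
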